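import Cfsg.Agent.H103.GT.Grp
import Cfsg.Agent.H103.GT.Coord
import Cfsg.Agent.Solvable.SZ

/-!
# S5211, task G2-POS (5440, helper199): every `p'`-group of automorphisms of `GU K` is conjugate into `TT K`
-/

set_option autoImplicit false
set_option linter.unusedSectionVars false
set_option linter.unusedVariables false
set_option linter.unusedSimpArgs false

namespace Cfsg.Agent.H199.GT

open Cfsg Cfsg.FusionSystem Cfsg.Agent.H756.PU Cfsg.Agent.H779.G2 Cfsg.Agent.H103.GT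

universe u

variable {K : Type u} [Field K] {p n : ℕ}

/-! ### invariant subgroups -/

/-- `α` preserves `Q` -/
def Pr (α : MulAut (GU K)) (Q : Subgroup (GU K)) : Prop := ∀ g, α g ∈ Q ↔ g ∈ Q

theorem iff_of_map {α : MulAut (GU K)} {Q Q' : Subgroup (GU K)} (h : Q.map α.toMonoidHom = Q') (g : GU K) :
    α g ∈ Q' ↔ g ∈ Q := by
  rw [← h]
  exact Subgroup.mem_map_iff_mem α.injective

theorem map_of_pr {α : MulAut (GU K)} {Q Q' : Subgroup (GU K)} (h : ∀ g, α g ∈ Q' ↔ g ∈ Q) :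
    Q.map α.toMonoidHom = Q' := by
  ext x
  constructor
  · rintro ⟨g, hg, rfl⟩
    exact (h g).2 hg
  · intro hx
    obtain ⟨g, rfl⟩ := α.surjective x
    exact ⟨g, (h g).1 hx, rfl⟩

theorem Pr.inf {α : MulAut (GU K)} {Q R : Subgroup (GU K)} (hQ : Pr α Q) (hR : Pr α R) : Pr α (Q ⊓ R) :=
  fun g => ⟨fun h => ⟨(hQ g).1 h.1, (hR g).1 h.2⟩, fun h => ⟨(hQ g).2 h.1, (hR g).2 h.2⟩⟩

/-- the centralizer of an invariant subgroup is invariant -/
theorem Pr.cent {α : MulAut (GU K)} {Q H : Subgroup (GU K)} (hQ : Pr α Q)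
    (hH : ∀ x, (∀ z ∈ Q, x * z = z * x) ↔ x ∈ H) : Pr α H := by
  intro g
  rw [← hH, ← hH]
  constructor
  · intro h z hz
    apply α.injective
    rw [map_mul, map_mul, h _ ((hQ z).2 hz)]
  · intro h z hz
    obtain ⟨y, rfl⟩ := α.surjective z
    rw [← map_mul, ← map_mul, h y ((hQ y).1 hz)]

/-- the swapping alternative -/
def Sw (α : MulAut (GU K)) : Prop := (∀ g, α g ∈ Qb K ↔ g ∈ Qa K) ∧ (∀ g, α g ∈ Qa K ↔ g ∈ Qb K)

theorem pres (h : HypG K p n) (hq : 2 < p ^ n) (hTI : StTI.{u}) (α : MulAut (GU K)) :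
    (Pr α (Qa K) ∧ Pr α (Qb K)) ∨ Sw α := by
  have h1 := (hTI h hq (Qa K) (Or.inl rfl)).2.2.2.2 α
  have h2 := (hTI h hq (Qb K) (Or.inr rfl)).2.2.2.2 α
  have hne : Qa K ≠ Qb K := by
    intro he
    have h3 : x1 (1 : K) ∈ Qa K := he ▸ x1_mem 1
    exact one_ne_zero (mem_Qa.1 h3)
  have hinj : Function.Injective (Subgroup.map α.toMonoidHom) := Subgroup.map_injective α.injective
  rcases h1 with h1 | h1 <;> rcases h2 with h2 | h2
  · exact absurd (hinj (h1.trans h2.symm)) hne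
  · exact Or.inl ⟨iff_of_map h1, iff_of_map h2⟩
  · exact Or.inr ⟨iff_of_map h1, iff_of_map h2⟩
  · exact absurd (hinj (h1.trans h2.symm)) hne

theorem pres' (h : HypG K p n) (hq : 2 < p ^ n) (hTI : StTI.{u}) (h3 : p ≠ 3) (α : MulAut (GU K)) :
    Pr α (Qa K) ∧ Pr α (Qb K) :=
  ⟨iff_of_map ((hTI h hq (Qa K) (Or.inl rfl)).2.2.2.1 h3 α),
    iff_of_map ((hTI h hq (Qb K) (Or.inr rfl)).2.2.2.1 h3 α)⟩

theorem pr_Z4 (h : HypG K p n) (hq : 2 < p ^ n) (hTI : StTI.{u}) (α : MulAut (GU K)) : Pr α (Z4 K) := by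
  rw [← Qa_inf_Qb]
  rcases pres h hq hTI α with h1 | h1
  · exact h1.1.inf h1.2
  · intro g
    exact ⟨fun h => ⟨(h1.1 g).1 h.2, (h1.2 g).1 h.1⟩, fun h => ⟨(h1.2 g).2 h.2, (h1.1 g).2 h.1⟩⟩

/-! ### characteristic `3` -/

/-- `X₃X₄X₆` -/
def Y3 (K : Type u) [Field K] : Subgroup (GU K) where
  carrier := {g | g.a = 0 ∧ g.b = 0 ∧ g.e = 0}
  one_mem' := by simp
  mul_mem' := by
    rintro x y ⟨h1, h2, h3⟩ ⟨k1, k2, k3⟩
    simp [h1, h2, h3, k1, k2, k3]
  inv_mem' := by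
    rintro x ⟨h1, h2, h3⟩
    simp [h1, h2, h3]

/-- `X₄X₆` -/
def ZS (K : Type u) [Field K] : Subgroup (GU K) where
  carrier := {g | g.a = 0 ∧ g.b = 0 ∧ g.c = 0 ∧ g.e = 0}
  one_mem' := by simp
  mul_mem' := by
    rintro x y ⟨h1, h2, h3, h4⟩ ⟨k1, k2, k3, k4⟩
    simp [h1, h2, h3, h4, k1, k2, k3, k4]
  inv_mem' := by
    rintro x ⟨h1, h2, h3, h4⟩
    simp [h1, h2, h3, h4]

theorem cent_Qb_three (h3 : (3 : K) = 0) (x : GU K) : (∀ z ∈ Qb K, x * z = z * x) ↔ x ∈ Z3 K := by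
  constructor
  · intro h
    obtain ⟨ha, hb⟩ := (cent_Z4_three h3).1 fun z hz => h z (Z4_le_Qb hz)
    have h1 := (comm_iff _ _).1 (h (x1 1) (x1_mem 1))
    rw [cm_d] at h1
    have h4 := h1.2.1
    simp only [x1, ha, hb] at h4
    exact ⟨ha, hb, by linear_combination -h4 + x.c * h3⟩
  · intro hx z hz
    exact (comm_Qb_Z3 h3 hz hx).symm

theorem cent_Qa_three (h3 : (3 : K) = 0) (x : GU K) : (∀ z ∈ Qa K, x * z = z * x) ↔ x ∈ Y3 K := by
  constructor
  · intro h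
    obtain ⟨ha, hb⟩ := (cent_Z4_three h3).1 fun z hz => h z (Z4_le_Qa hz)
    have h1 := (comm_iff _ _).1 (h (x2 1) (x2_mem 1))
    rw [cm_f] at h1
    have h4 := h1.2.2.2
    simp only [x2, ha, hb] at h4
    exact ⟨ha, hb, by linear_combination -h4⟩
  · rintro ⟨ha, hb, he⟩ z hz
    have hz' : z.a = 0 := hz
    rw [comm_iff, cm_c, cm_d, cm_e, cm_f]
    simp only [ha, hb, he, hz']
    refine ⟨?_, ?_, ?_, ?_⟩
    · ring
    · ring
    · ring
    · linear_combination (-x.c * z.d + x.d * z.c) * h3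

/-! ### invariance of `Z₃` -/

theorem pr_Z3_of_two (h2 : (2 : K) ≠ 0) {α : MulAut (GU K)} (hb : Pr α (Qb K)) (h4 : Pr α (Z4 K)) (hZ : Pr α (Z2 K)) :
    Pr α (Z3 K) := by
  have key : ∀ y : GU K, y ∈ Z3 K ↔ y ∈ Z4 K ∧ ∀ x ∈ Qb K, x * y * x⁻¹ * y⁻¹ ∈ Z2 K := by
    intro y
    constructor
    · intro hy
      exact ⟨Z3_le_Z4 hy, fun x hx => com_Qb_Z3 x hx y hy⟩
    · rintro ⟨hy, h1⟩
      have h5 := (mem_Z2.1 (h1 (x1 1) (x1_mem 1))).2.2.2
      rw [cm_d] at h5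
      obtain ⟨ya, yb⟩ := mem_Z4.1 hy
      simp only [x1, ya, yb] at h5
      refine ⟨ya, yb, ?_⟩
      apply mul_left_cancel₀ h2
      linear_combination -h5
  intro g
  rw [key, key, h4 g]
  refine and_congr_right (fun _ => ?_)
  constructor
  · intro h x hx
    have := h (α x) ((hb x).2 hx)
    rw [← map_inv, ← map_inv, ← map_mul, ← map_mul, ← map_mul] at this
    exact (hZ _).1 this
  · intro h x hx
    obtain ⟨y, rfl⟩ := α.surjective x
    rw [← map_inv, ← map_inv, ← map_mul, ← map_mul, ← map_mul]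
    exact (hZ _).2 (h y ((hb y).1 hx))

/-- `X₃X₅X₆` -/
def Z3s (K : Type u) [Field K] : Subgroup (GU K) where
  carrier := {g | g.a = 0 ∧ g.b = 0 ∧ g.d = 0}
  one_mem' := by simp
  mul_mem' := by
    rintro x y ⟨h1, h2, h3⟩ ⟨k1, k2, k3⟩
    simp [h1, h2, h3, k1, k2, k3]
  inv_mem' := by
    rintro x ⟨h1, h2, h3⟩
    simp [h1, h2, h3]

/-- characteristic `2`: the elements of `Z₄` with exactly one non-zero coordinate among `c, d` -/
theorem two_key (h2 : (2 : K) = 0) (z : GU K) :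
    (z ∈ Z4 K ∧ z ∉ Z2 K ∧ ∀ x ∈ Qb K, x * z * x⁻¹ * z⁻¹ ∈ Z1 K → x ∈ Z4 K) ↔
      (z ∈ Z4 K ∧ ((z.c = 0 ∧ z.d ≠ 0) ∨ (z.c ≠ 0 ∧ z.d = 0))) := by
  refine and_congr_right (fun hz => ?_)
  obtain ⟨za, zb⟩ := mem_Z4.1 hz
  have hcm : ∀ x ∈ Qb K, (x * z * x⁻¹ * z⁻¹ ∈ Z1 K ↔ x.a * (z.d + x.a * z.c) = 0) := by
    intro x hx
    have hx' : x.b = 0 := hx
    rw [mem_Z1, cm_a, cm_b, cm_c, cm_d, cm_e]
    simp only [za, zb, hx']
    constructor
    · rintro ⟨-, -, -, -, h5⟩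
      linear_combination h5 + (2 * x.a * z.d - x.a ^ 2 * z.c) * h2
    · intro h5
      refine ⟨trivial, trivial, by ring, ?_, ?_⟩
      · linear_combination (-x.a * z.c) * h2
      · linear_combination h5 + (x.a ^ 2 * z.c - 2 * x.a * z.d) * h2
  constructor
  · rintro ⟨h1, h3⟩
    by_cases hc : z.c = 0
    · left
      refine ⟨hc, fun hd => h1 ⟨za, zb, hc, hd⟩⟩
    · right
      refine ⟨hc, ?_⟩
      by_contra hd
      have h4 := h3 (x1 (-z.d / z.c)) (x1_mem _) ((hcm _ (x1_mem _)).2 (by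
        simp only [x1]
        have : z.d + -z.d / z.c * z.c = 0 := by
          rw [div_mul_cancel₀ _ hc]; ring
        rw [this, mul_zero]))
      have h5 : -z.d / z.c = 0 := (mem_Z4.1 h4).1
      rcases div_eq_zero_iff.1 h5 with h6 | h6
      · exact hd (neg_eq_zero.1 h6)
      · exact hc h6
  · rintro (⟨hc, hd⟩ | ⟨hc, hd⟩)
    · refine ⟨fun h => hd (mem_Z2.1 h).2.2.2, fun x hx h5 => ⟨?_, hx⟩⟩
      have h6 := (hcm x hx).1 h5
      rw [hc, mul_zero, add_zero] at h6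
      exact (mul_eq_zero.1 h6).resolve_right hd
    · refine ⟨fun h => hc (mem_Z2.1 h).2.2.1, fun x hx h5 => ⟨?_, hx⟩⟩
      have h6 := (hcm x hx).1 h5
      rw [hd, zero_add, ← mul_assoc] at h6
      exact mul_self_eq_zero.1 ((mul_eq_zero.1 h6).resolve_right hc)

/-- the property of `two_key` is invariant -/
theorem two_inv {α : MulAut (GU K)} (hb : Pr α (Qb K)) (h4 : Pr α (Z4 K)) (hZ2 : Pr α (Z2 K)) (hZ1 : Pr α (Z1 K))
    (z : GU K) :
    (α z ∈ Z4 K ∧ α z ∉ Z2 K ∧ ∀ x ∈ Qb K, x * α z * x⁻¹ * (α z)⁻¹ ∈ Z1 K → x ∈ Z4 K) ↔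
      (z ∈ Z4 K ∧ z ∉ Z2 K ∧ ∀ x ∈ Qb K, x * z * x⁻¹ * z⁻¹ ∈ Z1 K → x ∈ Z4 K) := by
  rw [h4 z, hZ2 z]
  refine and_congr_right (fun _ => and_congr_right (fun _ => ?_))
  constructor
  · intro h x hx h1
    refine (h4 x).1 (h (α x) ((hb x).2 hx) ?_)
    rw [← map_inv, ← map_inv, ← map_mul, ← map_mul, ← map_mul]
    exact (hZ1 _).2 h1
  · intro h x hx h1
    obtain ⟨y, rfl⟩ := α.surjective x
    rw [← map_inv, ← map_inv, ← map_mul, ← map_mul, ← map_mul] at h1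
    exact (h4 y).2 (h y ((hb y).1 hx) ((hZ1 _).1 h1))

theorem card_Z3s [Finite K] : Nat.card (Z3s K) = Nat.card K ^ 3 := by
  let e : Z3s K ≃ K × K × K :=
    { toFun := fun x => ((x : GU K).c, (x : GU K).e, (x : GU K).f)
      invFun := fun y => ⟨⟨0, 0, y.1, 0, y.2.1, y.2.2⟩, ⟨rfl, rfl, rfl⟩⟩
      left_inv := fun x => by
        apply Subtype.ext
        obtain ⟨ha, hb, hd⟩ := x.2
        ext
        · exact ha.symm
        · exact hb.symm
        · rfl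
        · exact hd.symm
        · rfl
        · rfl
      right_inv := fun y => rfl }
  rw [Nat.card_congr e, Nat.card_prod, Nat.card_prod]
  ring

/-- characteristic `2`: `Z₃` and `X₃X₅X₆` are preserved or swapped -/
theorem two_dich [Finite K] (h2 : (2 : K) = 0) {α : MulAut (GU K)} (hb : Pr α (Qb K)) (h4 : Pr α (Z4 K))
    (hZ2 : Pr α (Z2 K)) (hZ1 : Pr α (Z1 K)) (Q : Subgroup (GU K)) (hQ : Q = Z3 K ∨ Q = Z3s K) :
    Q.map α.toMonoidHom = Z3 K ∨ Q.map α.toMonoidHom = Z3s K := by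
  have hQ4 : Q ≤ Z4 K := by
    rcases hQ with rfl | rfl
    · exact Z3_le_Z4
    · exact fun g hg => ⟨hg.1, hg.2.1⟩
  have hcQ : Nat.card Q = Nat.card K ^ 3 := by
    rcases hQ with rfl | rfl
    · exact card_Z3
    · exact card_Z3s
  have hone : ∀ z ∈ Q, z ∉ Z2 K → z ∈ Z4 K ∧ ((z.c = 0 ∧ z.d ≠ 0) ∨ (z.c ≠ 0 ∧ z.d = 0)) := by
    intro z hz hz2
    refine ⟨hQ4 hz, ?_⟩
    rcases hQ with rfl | rfl
    · obtain ⟨h1, h3, h5⟩ := hz
      exact Or.inl ⟨h5, fun h6 => hz2 ⟨h1, h3, h5, h6⟩⟩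
    · obtain ⟨h1, h3, h5⟩ := hz
      exact Or.inr ⟨fun h6 => hz2 ⟨h1, h3, h6, h5⟩, h5⟩
  have himg : ∀ z ∈ Q, α z ∉ Z2 K → α z ∈ Z4 K ∧ (((α z).c = 0 ∧ (α z).d ≠ 0) ∨ ((α z).c ≠ 0 ∧ (α z).d = 0)) := by
    intro z hz hz2
    have h1 := hone z hz (fun h => hz2 ((hZ2 z).2 h))
    rw [← two_key h2, ← two_inv hb h4 hZ2 hZ1, two_key h2] at h1
    exact h1
  have hcard : Nat.card (Q.map α.toMonoidHom) = Nat.card K ^ 3 := by
    rw [← hcQ]
    exact (Nat.card_congr (Q.equivMapOfInjective α.toMonoidHom α.injective).toEquiv).symm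
  have hmain : Q.map α.toMonoidHom ≤ Z3 K ∨ Q.map α.toMonoidHom ≤ Z3s K := by
    by_contra hcon
    push Not at hcon
    obtain ⟨h5, h6⟩ := hcon
    obtain ⟨_, ⟨z1, hz1, rfl⟩, h7⟩ := SetLike.not_le_iff_exists.1 h5
    obtain ⟨_, ⟨z2, hz2, rfl⟩, h8⟩ := SetLike.not_le_iff_exists.1 h6
    change α z1 ∉ Z3 K at h7
    change α z2 ∉ Z3s K at h8
    have k1 := (mem_Z4.1 ((h4 z1).2 (hQ4 hz1)))
    have k2 := (mem_Z4.1 ((h4 z2).2 (hQ4 hz2)))
    have c1 : (α z1).c ≠ 0 := fun h => h7 ⟨k1.1, k1.2, h⟩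
    have d2 : (α z2).d ≠ 0 := fun h => h8 ⟨k2.1, k2.2, h⟩
    have d1 : (α z1).d = 0 := by
      rcases (himg z1 hz1 (fun h => c1 (mem_Z2.1 h).2.2.1)).2 with h9 | h9
      · exact absurd h9.1 c1
      · exact h9.2
    have c2 : (α z2).c = 0 := by
      rcases (himg z2 hz2 (fun h => d2 (mem_Z2.1 h).2.2.2)).2 with h9 | h9
      · exact h9.1
      · exact absurd h9.2 d2
    have c3 : (α (z1 * z2)).c = (α z1).c := by
      rw [map_mul, GU.mul_c, c2, k2.1]; ring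
    have d3 : (α (z1 * z2)).d = (α z2).d := by
      rw [map_mul, GU.mul_d, d1, k2.1]; ring
    rcases (himg (z1 * z2) (Q.mul_mem hz1 hz2) (fun h => c1 (c3 ▸ (mem_Z2.1 h).2.2.1))).2 with h9 | h9
    · exact c1 (c3 ▸ h9.1)
    · exact d2 (d3 ▸ h9.2)
  have hfin : ∀ H : Subgroup (GU K), Nat.card H = Nat.card K ^ 3 → Q.map α.toMonoidHom ≤ H →
      Q.map α.toMonoidHom = H := by
    intro H hH hle
    exact Subgroup.eq_of_le_of_card_ge hle (by rw [hH, hcard])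
  rcases hmain with h5 | h5
  · exact Or.inl (hfin _ card_Z3 h5)
  · exact Or.inr (hfin _ card_Z3s h5)

/-- characteristic `2`: an automorphism of odd order preserves `Z₃` -/
theorem pr_Z3_two [Finite K] (h2 : (2 : K) = 0) (hall : ∀ α : MulAut (GU K), Pr α (Qb K) ∧ Pr α (Z4 K) ∧ Pr α (Z2 K) ∧
    Pr α (Z1 K)) {α : MulAut (GU K)} {m : ℕ} (hm : α ^ m = 1) (hodd : Odd m) : Pr α (Z3 K) := by
  have hdi : ∀ Q : Subgroup (GU K), (Q = Z3 K ∨ Q = Z3s K) →
      Q.map α.toMonoidHom = Z3 K ∨ Q.map α.toMonoidHom = Z3s K := fun Q hQ =>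
    two_dich h2 (hall α).1 (hall α).2.1 (hall α).2.2.1 (hall α).2.2.2 Q hQ
  have hne : Z3 K ≠ Z3s K := by
    intro he
    have h3 : x4 (1 : K) ∈ Z3s K := he ▸ x4_mem 1
    exact one_ne_zero h3.2.2
  have hinj : Function.Injective (Subgroup.map α.toMonoidHom) := Subgroup.map_injective α.injective
  rcases hdi _ (Or.inl rfl) with h1 | h1
  · exact iff_of_map h1
  exfalso
  have h3 : (Z3s K).map α.toMonoidHom = Z3 K := by
    rcases hdi _ (Or.inr rfl) with h3 | h3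
    · exact h3
    · exact absurd (hinj (h1.trans h3.symm)) hne
  -- even powers preserve, odd powers swap
  have hpow : ∀ k : ℕ, (Z3 K).map (α ^ (2 * k)).toMonoidHom = Z3 K := by
    intro k
    induction k with
    | zero =>
      rw [mul_zero, pow_zero]
      exact Subgroup.map_id _
    | succ k ih =>
      have e : (Z3 K).map (α ^ (2 * (k + 1))).toMonoidHom =
          (((Z3 K).map (α ^ (2 * k)).toMonoidHom).map α.toMonoidHom).map α.toMonoidHom := by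
        rw [Subgroup.map_map, Subgroup.map_map]
        congr 1
        refine MonoidHom.ext fun x => ?_
        change (α ^ (2 * (k + 1))) x = α (α ((α ^ (2 * k)) x))
        rw [show 2 * (k + 1) = 1 + 1 + 2 * k by ring, pow_add, pow_add, pow_one, MulAut.mul_apply, MulAut.mul_apply]
      rw [e, ih, h1, h3]
  obtain ⟨k, rfl⟩ := hodd
  have h5 := hpow k
  have h6 : ((Z3 K).map (α ^ (2 * k)).toMonoidHom).map α.toMonoidHom = Z3 K := by
    rw [Subgroup.map_map]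
    have e : (α.toMonoidHom.comp (α ^ (2 * k)).toMonoidHom) = MonoidHom.id (GU K) := by
      ext1 x
      change α ((α ^ (2 * k)) x) = x
      rw [← MulAut.mul_apply, ← pow_succ', hm, MulAut.one_apply]
    rw [e]
    exact Subgroup.map_id _
  rw [h5, h1] at h6
  exact hne h6.symm

/-! ### good automorphisms -/

/-- the invariance needed -/
structure Gd (α : MulAut (GU K)) : Prop where
  qa : Pr α (Qa K)
  qb : Pr α (Qb K)
  z4 : Pr α (Z4 K)
  z3 : Pr α (Z3 K)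

/-- automorphisms of `p'`-order not swapping are good -/
theorem gd_of (h : HypG K p n) (hq : 2 < p ^ n) (hTI : StTI.{u}) {α : MulAut (GU K)} (hs : ¬ Sw α) {m : ℕ}
    (hm : α ^ m = 1) (hpm : ¬ p ∣ m) : Gd α := by
  have hfin := h.fin
  have hch := h.char
  have h4 := pr_Z4 h hq hTI
  have hab := (pres h hq hTI α).resolve_right hs
  refine ⟨hab.1, hab.2, h4 α, ?_⟩
  by_cases hp3 : p = 3
  · subst hp3
    have h3 : (3 : K) = 0 := by exact_mod_cast CharP.cast_eq_zero K 3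
    exact hab.2.cent (cent_Qb_three h3)
  have h3 : (3 : K) ≠ 0 := by
    intro h3
    have h5 : ((3 : ℕ) : K) = 0 := by exact_mod_cast h3
    exact hp3 ((Nat.prime_dvd_prime_iff_eq h.pp Nat.prime_three).1 ((CharP.cast_eq_zero_iff K p 3).1 h5))
  have hqb : ∀ β : MulAut (GU K), Pr β (Qb K) := fun β => (pres' h hq hTI hp3 β).2
  have hz2 : ∀ β : MulAut (GU K), Pr β (Z2 K) := fun β => (hqb β).cent (fun x => cent_Qb h3)
  have hz1 : ∀ β : MulAut (GU K), Pr β (Z1 K) := fun β => (pres' h hq hTI hp3 β).1.cent (fun x => cent_Qa h3)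
  by_cases hp2 : p = 2
  · subst hp2
    have h2 : (2 : K) = 0 := by exact_mod_cast CharP.cast_eq_zero K 2
    refine pr_Z3_two h2 (fun β => ⟨hqb β, h4 β, hz2 β, hz1 β⟩) hm ?_
    exact Nat.not_even_iff_odd.1 (fun he => hpm he.two_dvd)
  · refine pr_Z3_of_two ?_ (hqb α) (h4 α) (hz2 α)
    intro h2
    have h5 : ((2 : ℕ) : K) = 0 := by exact_mod_cast h2
    exact hp2 ((Nat.prime_dvd_prime_iff_eq h.pp Nat.prime_two).1 ((CharP.cast_eq_zero_iff K p 2).1 h5))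

/-! ### coordinates -/

theorem a_congr {α : MulAut (GU K)} (ha : Pr α (Qa K)) {x y : GU K} (h : x.a = y.a) : (α x).a = (α y).a := by
  have h1 : x⁻¹ * y ∈ Qa K := by
    rw [mem_Qa, GU.mul_a, GU.inv_a, h, neg_add_cancel]
  have h2 := mem_Qa.1 ((ha _).2 h1)
  rw [map_mul, map_inv, GU.mul_a, GU.inv_a] at h2
  linear_combination -h2

theorem b_congr {α : MulAut (GU K)} (ha : Pr α (Qb K)) {x y : GU K} (h : x.b = y.b) : (α x).b = (α y).b := by
  have h1 : x⁻¹ * y ∈ Qb K := by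
    rw [mem_Qb, GU.mul_b, GU.inv_b, h, neg_add_cancel]
  have h2 := mem_Qb.1 ((ha _).2 h1)
  rw [map_mul, map_inv, GU.mul_b, GU.inv_b] at h2
  linear_combination -h2

/-- coordinates on an invariant subgroup, additive there -/
theorem chi_congr {α : MulAut (GU K)} {P Q : Subgroup (GU K)} {χ : GU K → K} (hP : Pr α P) (hQ : Pr α Q)
    (hχ : ∀ x ∈ P, ∀ y ∈ P, χ (x * y) = χ x + χ y) (hχi : ∀ x ∈ P, χ x⁻¹ = - χ x)
    (hPQ : ∀ x ∈ P, χ x = 0 ↔ x ∈ Q) {x y : GU K} (hx : x ∈ P) (hy : y ∈ P) (h : χ x = χ y) :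
    χ (α x) = χ (α y) := by
  have h0 : x⁻¹ * y ∈ P := P.mul_mem (P.inv_mem hx) hy
  have h1 : x⁻¹ * y ∈ Q := by
    rw [← hPQ _ h0, hχ _ (P.inv_mem hx) _ hy, hχi _ hx, h, neg_add_cancel]
  have h2 := (hPQ _ ((hP _).2 h0)).2 ((hQ _).2 h1)
  rw [map_mul, map_inv, hχ _ (P.inv_mem ((hP x).2 hx)) _ ((hP y).2 hy), hχi _ ((hP x).2 hx)] at h2
  linear_combination -h2

theorem add_c {x y : GU K} (hx : x ∈ Z4 K) (hy : y ∈ Z4 K) : (x * y).c = x.c + y.c := by
  rw [GU.mul_c, hx.2]; ring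

theorem add_d {x y : GU K} (hx : x ∈ Z4 K) (hy : y ∈ Z4 K) : (x * y).d = x.d + y.d := by
  rw [GU.mul_d, hy.1]; ring

theorem add_e {x y : GU K} (hx : x ∈ Z4 K) (hy : y ∈ Z4 K) : (x * y).e = x.e + y.e := by
  rw [GU.mul_e, hy.1]; ring

theorem neg_c {x : GU K} (hx : x ∈ Z4 K) : (x⁻¹).c = - x.c := by
  rw [GU.inv_c, hx.1]; ring

theorem neg_d {x : GU K} (hx : x ∈ Z4 K) : (x⁻¹).d = - x.d := by
  rw [GU.inv_d, hx.1]; ring

theorem neg_e {x : GU K} (hx : x ∈ Z4 K) : (x⁻¹).e = - x.e := by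
  rw [GU.inv_e, hx.1]; ring

theorem c_congr {α : MulAut (GU K)} (h4 : Pr α (Z4 K)) (h3 : Pr α (Z3 K)) {x y : GU K} (hx : x ∈ Z4 K)
    (hy : y ∈ Z4 K) (h : x.c = y.c) : (α x).c = (α y).c :=
  chi_congr (χ := GU.c) h4 h3 (fun x hx y hy => add_c hx hy) (fun x hx => neg_c hx)
    (fun x hx => ⟨fun h => ⟨hx.1, hx.2, h⟩, fun h => h.2.2⟩) hx hy h

/-- the counting argument -/
theorem defect {P : Subgroup (GU K)} {χ : GU K → K} {α : MulAut (GU K)}
    (hχ : ∀ x ∈ P, ∀ y ∈ P, χ (x * y) = χ x + χ y) (hP : Pr α P)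
    (hα : ∀ x ∈ P, χ (α x) = χ x) (h1 : χ 1 = 0) {x : GU K} (hx : x⁻¹ * α x ∈ P) {m : ℕ}
    (hm : α ^ m = 1) (hm0 : (m : K) ≠ 0) : χ (x⁻¹ * α x) = 0 := by
  have key : ∀ j : ℕ, x⁻¹ * (α ^ j) x ∈ P ∧ χ (x⁻¹ * (α ^ j) x) = j * χ (x⁻¹ * α x) := by
    intro j
    induction j with
    | zero =>
      have e : x⁻¹ * (α ^ 0) x = 1 := by
        rw [pow_zero, MulAut.one_apply, inv_mul_cancel]
      rw [e]
      exact ⟨P.one_mem, by rw [h1, Nat.cast_zero, zero_mul]⟩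
    | succ j ih =>
      have e : x⁻¹ * (α ^ (j + 1)) x = (x⁻¹ * α x) * α (x⁻¹ * (α ^ j) x) := by
        rw [pow_succ', MulAut.mul_apply, map_mul, map_inv]
        group
      rw [e]
      refine ⟨P.mul_mem hx ((hP _).2 ih.1), ?_⟩
      rw [hχ _ hx _ ((hP _).2 ih.1), hα _ ih.1, ih.2]
      push_cast
      ring
  have h2 := (key m).2
  rw [hm, MulAut.one_apply, inv_mul_cancel, h1] at h2
  exact (mul_eq_zero.1 h2.symm).resolve_left hm0

/-! ### the automorphisms trivial on `S/Z₄` -/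

variable (K) in
/-- the automorphisms trivial on `S/Z₄` -/
def RR : Subgroup (MulAut (GU K)) where
  carrier := {α | ∀ x, (α x).a = x.a ∧ (α x).b = x.b}
  one_mem' := fun x => ⟨rfl, rfl⟩
  mul_mem' := by
    intro α β ha hb x
    rw [MulAut.mul_apply]
    exact ⟨((ha _).1).trans (hb x).1, ((ha _).2).trans (hb x).2⟩
  inv_mem' := by
    intro α ha x
    have h1 := ha (α⁻¹ x)
    have e : α (α⁻¹ x) = x := α.apply_symm_apply x
    rw [e] at h1
    exact ⟨h1.1.symm, h1.2.symm⟩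

theorem RR_normal (hall : ∀ α : MulAut (GU K), Pr α (Z4 K)) : (RR K).Normal := by
  constructor
  intro α ha γ x
  have ha' : ∀ x, (α x).a = x.a ∧ (α x).b = x.b := ha
  have e : γ (γ⁻¹ x) = x := γ.apply_symm_apply x
  rw [MulAut.mul_apply, MulAut.mul_apply]
  have h1 := ha' (γ⁻¹ x)
  have h2 : (γ⁻¹ x)⁻¹ * α (γ⁻¹ x) ∈ Z4 K := by
    rw [mem_Z4, GU.mul_a, GU.mul_b, GU.inv_a, GU.inv_b, h1.1, h1.2]
    exact ⟨neg_add_cancel _, neg_add_cancel _⟩
  have h3 := mem_Z4.1 ((hall γ _).2 h2)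
  rw [map_mul, map_inv, e, GU.mul_a, GU.mul_b, GU.inv_a, GU.inv_b] at h3
  exact ⟨by linear_combination h3.1, by linear_combination h3.2⟩

/-- `α x = x z` -/
theorem split (α : MulAut (GU K)) (x : GU K) : ∃ z, z = x⁻¹ * α x ∧ α x = x * z :=
  ⟨_, rfl, by rw [mul_inv_cancel_left]⟩

/-- a `p'`-element of `RR` that preserves `Z₃` is trivial -/
theorem RR_trivial (h : HypG K p n) (hq : 2 < p ^ n) (hTI : StTI.{u}) {α : MulAut (GU K)} (ha : α ∈ RR K)
    (hg : Gd α) {m : ℕ} (hm : α ^ m = 1) (hpm : ¬ p ∣ m) : α = 1 := by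
  have hfin := h.fin
  have hch := h.char
  have hm0 : (m : K) ≠ 0 := by
    intro h0
    exact hpm ((CharP.cast_eq_zero_iff K p m).1 h0)
  have ha' : ∀ x, (α x).a = x.a ∧ (α x).b = x.b := ha
  obtain ⟨qa, qb, q4, q3⟩ := hg
  -- on `Z₄/Z₃`
  have s1 : ∀ y ∈ Z4 K, (α y).c = y.c := by
    intro y hy
    have e1 : (x2 y.c * x1 1 * (x2 y.c)⁻¹ * (x1 (1 : K))⁻¹).c = y.c := by
      rw [cm_c]; simp [x1, x2]
    have e2 : x2 y.c * x1 1 * (x2 y.c)⁻¹ * (x1 (1 : K))⁻¹ ∈ Z4 K := ⟨cm_a _ _, cm_b _ _⟩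
    rw [← c_congr q4 q3 e2 hy e1, map_mul, map_mul, map_mul, map_inv, map_inv, cm_c, (ha' _).1, (ha' _).2,
      (ha' _).1, (ha' _).2]
    simp [x1, x2]
  have d0 : ∀ x, x⁻¹ * α x ∈ Z4 K := by
    intro x
    rw [mem_Z4, GU.mul_a, GU.mul_b, GU.inv_a, GU.inv_b, (ha' x).1, (ha' x).2]
    exact ⟨neg_add_cancel _, neg_add_cancel _⟩
  have d1 : ∀ x, x⁻¹ * α x ∈ Z3 K := by
    intro x
    exact ⟨(d0 x).1, (d0 x).2, defect (P := Z4 K) (χ := GU.c) (fun x hx y hy => add_c hx hy) q4 s1 rfl (d0 x) hm hm0⟩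
  have hc : ∀ x, (α x).c = x.c := by
    intro x
    obtain ⟨z, hz, e⟩ := split α x
    have hz' := d1 x
    rw [← hz] at hz'
    obtain ⟨z1, z2, z3⟩ := hz'
    rw [e, GU.mul_c, z1, z3]; ring
  have hone : (∀ x, x⁻¹ * α x = 1) → α = 1 := by
    intro hx
    refine MulEquiv.ext fun x => ?_
    rw [MulAut.one_apply]
    exact (inv_mul_eq_one.1 (hx x)).symm
  apply hone
  by_cases h3 : (3 : K) = 0
  · -- characteristic `3`
    have hY : Pr α (Y3 K) := qa.cent (cent_Qa_three h3)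
    have hZS : Pr α (ZS K) := by
      have : ZS K = Z3 K ⊓ Y3 K := by
        ext g
        exact ⟨fun h => ⟨⟨h.1, h.2.1, h.2.2.1⟩, ⟨h.1, h.2.1, h.2.2.2⟩⟩, fun h => ⟨h.1.1, h.1.2.1, h.1.2.2, h.2.2.2⟩⟩
      rw [this]
      exact q3.inf hY
    have hem : ∀ x y : GU K, (x * y * x⁻¹ * y⁻¹).e = - x.a ^ 3 * y.b + x.b * y.a ^ 3 := by
      intro x y
      rw [cm_e]
      linear_combination (x.a * x.b * y.a ^ 2 - 2 * x.a * x.c * y.a + 2 * x.a * y.a * y.c - x.a * y.a ^ 2 * y.b -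
        x.a * y.d + x.a ^ 2 * x.b * y.a - x.a ^ 2 * y.a * y.b + x.a ^ 2 * y.c - x.c * y.a ^ 2 + x.d * y.a) * h3
    have s2 : ∀ y ∈ Z4 K, (α y).e = y.e := by
      intro y hy
      have e1 : (x2 y.e * x1 1 * (x2 y.e)⁻¹ * (x1 (1 : K))⁻¹).e = y.e := by
        rw [hem]; simp [x1, x2]
      have e2 : x2 y.e * x1 1 * (x2 y.e)⁻¹ * (x1 (1 : K))⁻¹ ∈ Z4 K := ⟨cm_a _ _, cm_b _ _⟩
      rw [← chi_congr (χ := GU.e) q4 hY (fun x hx y hy => add_e hx hy) (fun x hx => neg_e hx)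
        (fun x hx => ⟨fun h => ⟨hx.1, hx.2, h⟩, fun h => h.2.2⟩) e2 hy e1, map_mul, map_mul, map_mul, map_inv, map_inv,
        hem, (ha' _).1, (ha' _).2, (ha' _).1, (ha' _).2]
      simp [x1, x2]
    have d2 : ∀ x, x⁻¹ * α x ∈ ZS K := by
      intro x
      exact ⟨(d1 x).1, (d1 x).2.1, (d1 x).2.2,
        defect (P := Z4 K) (χ := GU.e) (fun x hx y hy => add_e hx hy) q4 s2 rfl (d0 x) hm hm0⟩
    have he : ∀ x, (α x).e = x.e := by
      intro x
      obtain ⟨z, hz, e⟩ := split α x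
      have hz' := d2 x
      rw [← hz] at hz'
      obtain ⟨z1, z2, z3, z4⟩ := hz'
      rw [e, GU.mul_e, z1, z4]; ring
    -- commutators are fixed
    have hfix : ∀ x y : GU K, α (x * y * x⁻¹ * y⁻¹) = x * y * x⁻¹ * y⁻¹ := by
      intro x y
      have hd1 : (α (x * y * x⁻¹ * y⁻¹)).d = (x * y * x⁻¹ * y⁻¹).d := by
        rw [map_mul, map_mul, map_mul, map_inv, map_inv, cm_d, cm_d, (ha' x).1, (ha' x).2, (ha' y).1, (ha' y).2, hc, hc]
      have hf1 : (α (x * y * x⁻¹ * y⁻¹)).f = (x * y * x⁻¹ * y⁻¹).f := by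
        have hfm : ∀ x y : GU K, (x * y * x⁻¹ * y⁻¹).f = - 2 * x.a ^ 3 * y.b ^ 2 + x.b * y.e - x.b ^ 2 * y.a ^ 3 -
            x.e * y.b := by
          intro x y
          rw [cm_f]
          linear_combination (x.a * x.b * y.a ^ 2 * y.b - x.a * x.b ^ 2 * y.a ^ 2 - 2 * x.a * x.c * y.a * y.b -
            x.a * y.b * y.d + x.a * y.c ^ 2 + 2 * x.a ^ 2 * x.b * y.a * y.b - x.a ^ 2 * y.a * y.b ^ 2 +
            x.a ^ 2 * y.b * y.c + x.b * x.c * y.a ^ 2 + x.b * x.d * y.a - x.c * y.d - x.c ^ 2 * y.a + x.d * y.c) * h3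
        rw [map_mul, map_mul, map_mul, map_inv, map_inv, hfm, hfm, (ha' x).1, (ha' x).2, (ha' y).1, (ha' y).2, he, he]
      refine GU.ext (ha' _).1 (ha' _).2 (hc _) hd1 (he _) hf1
    have hd4 : ∀ t : K, α (x4 t) = x4 t := by
      intro t
      have e : x4 t = x1 1 * x3 t * (x1 1)⁻¹ * (x3 t)⁻¹ := by
        refine GU.ext ?_ ?_ ?_ ?_ ?_ ?_
        · rw [cm_a]; rfl
        · rw [cm_b]; rfl
        · rw [cm_c]; simp [x1, x3, x4]
        · rw [cm_d]
          simp only [x1, x3, x4]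
          linear_combination t * h3
        · rw [hem]; simp [x1, x3, x4]
        · rw [cm_f]
          simp only [x1, x3, x4]
          linear_combination (-t ^ 2) * h3
      rw [e]
      exact hfix _ _
    have hd6 : ∀ t : K, α (x6 t) = x6 t := by
      intro t
      have e : x6 t = x2 1 * x5 t * (x2 1)⁻¹ * (x5 t)⁻¹ := by
        refine GU.ext ?_ ?_ ?_ ?_ ?_ ?_
        · rw [cm_a]; rfl
        · rw [cm_b]; rfl
        · rw [cm_c]; simp [x2, x5, x6]
        · rw [cm_d]; simp [x2, x5, x6]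
        · rw [cm_e]; simp [x2, x5, x6]
        · rw [cm_f]; simp [x2, x5, x6]
      rw [e]
      exact hfix _ _
    have hZf : ∀ y ∈ ZS K, α y = y := by
      intro y hy
      obtain ⟨y1, y2, y3, y4⟩ := hy
      have e : y = x4 y.d * x6 y.f := by
        refine GU.ext ?_ ?_ ?_ ?_ ?_ ?_ <;> simp [x4, x6, y1, y2, y3, y4]
      rw [e, map_mul, hd4, hd6]
    intro x
    have hd : (x⁻¹ * α x).d = 0 := defect (P := ZS K) (χ := GU.d)
      (fun x hx y hy => add_d ⟨hx.1, hx.2.1⟩ ⟨hy.1, hy.2.1⟩) hZS (fun y hy => by rw [hZf y hy]) rfl (d2 x) hm hm0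
    have hf : (x⁻¹ * α x).f = 0 := defect (P := ZS K) (χ := GU.f)
      (fun x hx y hy => by
        obtain ⟨x1, x2, x3, x4⟩ := hx
        obtain ⟨y1, y2, y3, y4⟩ := hy
        rw [GU.mul_f]
        simp only [x1, x2, x3, x4, y1, y2, y3, y4]; ring) hZS (fun y hy => by rw [hZf y hy]) rfl (d2 x) hm hm0
    obtain ⟨z1, z2, z3, z4⟩ := d2 x
    exact GU.ext z1 z2 z3 hd z4 hf
  · -- characteristic `≠ 3`
    have hz2 : Pr α (Z2 K) := qb.cent (fun x => cent_Qb h3)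
    have hz1 : Pr α (Z1 K) := qa.cent (fun x => cent_Qa h3)
    have hcd : ∀ x y : GU K, (α (x * y * x⁻¹ * y⁻¹)).d = (x * y * x⁻¹ * y⁻¹).d := by
      intro x y
      rw [map_mul, map_mul, map_mul, map_inv, map_inv, cm_d, cm_d, (ha' x).1, (ha' x).2, (ha' y).1, (ha' y).2, hc, hc]
    obtain ⟨t, ht0, ht1⟩ : ∃ t : K, t ≠ 0 ∧ 1 - t ≠ 0 := by
      by_contra hcon
      push Not at hcon
      have h5 : Nat.card K ≤ 2 := by
        classical
        have := Fintype.ofFinite K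
        rw [Nat.card_eq_fintype_card]
        have h7 : (Finset.univ : Finset K) ⊆ {0, 1} := by
          intro x _
          by_cases hx : x = 0
          · simp [hx]
          · have := hcon x hx
            simp [(sub_eq_zero.1 this).symm]
        calc Fintype.card K = (Finset.univ : Finset K).card := rfl
          _ ≤ ({0, 1} : Finset K).card := Finset.card_le_card h7
          _ ≤ 2 := Finset.card_le_two
      rw [h.card] at h5
      omega
    have s2 : ∀ y ∈ Z3 K, (α y).d = y.d := by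
      intro y hy
      set k : K := y.d / (t * (1 - t)) with hk
      have htt : t * (1 - t) ≠ 0 := mul_ne_zero ht0 ht1
      set u : GU K := x2 k * x1 t * (x2 k)⁻¹ * (x1 t)⁻¹ with hu
      set v : GU K := x2 (k * t) * x1 1 * (x2 (k * t))⁻¹ * (x1 1)⁻¹ with hv
      have u4 : u ∈ Z4 K := ⟨cm_a _ _, cm_b _ _⟩
      have v4 : v ∈ Z4 K := ⟨cm_a _ _, cm_b _ _⟩
      have uc : u.c = k * t := by rw [hu, cm_c]; simp [x1, x2]
      have vc : v.c = k * t := by rw [hv, cm_c]; simp [x1, x2]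
      have ud : u.d = - (k * t ^ 2) := by
        rw [hu, cm_d]; simp only [x1, x2]; ring
      have vd : v.d = - (k * t) := by
        rw [hv, cm_d]; simp only [x1, x2]; ring
      have w4 : u * v⁻¹ ∈ Z4 K := (Z4 K).mul_mem u4 ((Z4 K).inv_mem v4)
      have wc : (u * v⁻¹).c = 0 := by rw [add_c u4 ((Z4 K).inv_mem v4), neg_c v4, uc, vc]; ring
      have w3 : u * v⁻¹ ∈ Z3 K := ⟨w4.1, w4.2, wc⟩
      have wd : (u * v⁻¹).d = y.d := by
        rw [add_d u4 ((Z4 K).inv_mem v4), neg_d v4, ud, vd]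
        have : k * (t * (1 - t)) = y.d := by rw [hk, div_mul_cancel₀ _ htt]
        linear_combination this
      have e1 : (α (u * v⁻¹)).d = (α y).d :=
        chi_congr (χ := GU.d) q3 hz2 (fun x hx y hy => add_d (Z3_le_Z4 hx) (Z3_le_Z4 hy))
          (fun x hx => neg_d (Z3_le_Z4 hx))
          (fun x hx => ⟨fun h => ⟨hx.1, hx.2.1, hx.2.2, h⟩, fun h => h.2.2.2⟩) w3 hy wd
      rw [← e1, map_mul, map_inv, add_d ((q4 _).2 u4) ((Z4 K).inv_mem ((q4 _).2 v4)), neg_d ((q4 _).2 v4), hcd, hcd,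
        ← neg_d v4, ← add_d u4 ((Z4 K).inv_mem v4)]
      exact wd
    have d2 : ∀ x, x⁻¹ * α x ∈ Z2 K := by
      intro x
      exact ⟨(d1 x).1, (d1 x).2.1, (d1 x).2.2,
        defect (P := Z3 K) (χ := GU.d) (fun x hx y hy => add_d (Z3_le_Z4 hx) (Z3_le_Z4 hy)) q3 s2 rfl (d1 x) hm hm0⟩
    have hd : ∀ x, (α x).d = x.d := by
      intro x
      obtain ⟨z, hz, e⟩ := split α x
      have hz' := d2 x
      rw [← hz] at hz'
      obtain ⟨z1, z2, z3, z4⟩ := hz'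
      rw [e, GU.mul_d, z1, z4]; ring
    have s3 : ∀ y ∈ Z2 K, (α y).e = y.e := by
      intro y hy
      set w : GU K := x1 1 * x4 (- y.e / 3) * (x1 1)⁻¹ * (x4 (- y.e / 3))⁻¹ with hw
      have we : w.e = y.e := by
        rw [hw, cm_e]
        simp only [x1, x4]
        field_simp
        ring
      have w2 : w ∈ Z2 K := by
        refine ⟨cm_a _ _, cm_b _ _, ?_, ?_⟩
        · rw [hw, cm_c]; simp [x1, x4]
        · rw [hw, cm_d]; simp [x1, x4]
      have e1 : (α w).e = (α y).e :=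
        chi_congr (χ := GU.e) hz2 hz1 (fun x hx y hy => add_e (Z2_le_Z4 hx) (Z2_le_Z4 hy))
          (fun x hx => neg_e (Z2_le_Z4 hx))
          (fun x hx => ⟨fun h => ⟨hx.1, hx.2.1, hx.2.2.1, hx.2.2.2, h⟩, fun h => h.2.2.2.2⟩) w2 hy we
      rw [← e1, hw, map_mul, map_mul, map_mul, map_inv, map_inv, cm_e]
      rw [(ha' (x1 1)).1, (ha' (x1 1)).2, (ha' (x4 _)).1, (ha' (x4 _)).2, hc, hc, hd, hd, ← cm_e]
      exact we
    have d3 : ∀ x, x⁻¹ * α x ∈ Z1 K := by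
      intro x
      exact ⟨(d2 x).1, (d2 x).2.1, (d2 x).2.2.1, (d2 x).2.2.2,
        defect (P := Z2 K) (χ := GU.e) (fun x hx y hy => add_e (Z2_le_Z4 hx) (Z2_le_Z4 hy)) hz2 s3 rfl (d2 x) hm hm0⟩
    have he : ∀ x, (α x).e = x.e := by
      intro x
      obtain ⟨z, hz, e⟩ := split α x
      have hz' := d3 x
      rw [← hz] at hz'
      obtain ⟨z1, z2, z3, z4, z5⟩ := hz'
      rw [e, GU.mul_e, z1, z5]; ring
    have s4 : ∀ y ∈ Z1 K, (α y).f = y.f := by
      intro y hy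
      obtain ⟨y1, y2, y3, y4, y5⟩ := hy
      have e : y = x2 1 * x5 y.f * (x2 1)⁻¹ * (x5 y.f)⁻¹ := by
        refine GU.ext ?_ ?_ ?_ ?_ ?_ ?_
        · rw [cm_a, y1]
        · rw [cm_b, y2]
        · rw [cm_c, y3]; simp [x2, x5]
        · rw [cm_d, y4]; simp [x2, x5]
        · rw [cm_e, y5]; simp [x2, x5]
        · rw [cm_f]; simp [x2, x5]
      have e1 : (α (x2 1 * x5 y.f * (x2 1)⁻¹ * (x5 y.f)⁻¹)).f = (x2 1 * x5 y.f * (x2 1)⁻¹ * (x5 y.f)⁻¹).f := by
        rw [map_mul, map_mul, map_mul, map_inv, map_inv, cm_f, cm_f, (ha' (x2 1)).1, (ha' (x2 1)).2, (ha' (x5 _)).1,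
          (ha' (x5 _)).2, hc, hc, hd, hd, he, he]
      rw [← e] at e1
      exact e1
    intro x
    have hf : (x⁻¹ * α x).f = 0 := defect (P := Z1 K) (χ := GU.f)
      (fun x hx y hy => by
        obtain ⟨x1, x2, x3, x4, x5⟩ := hx
        obtain ⟨y1, y2, y3, y4, y5⟩ := hy
        rw [GU.mul_f]
        simp only [x1, x2, x3, x4, x5, y1, y2, y3]; ring) hz1 s4 rfl (d3 x) hm hm0
    obtain ⟨z1, z2, z3, z4, z5⟩ := d3 x
    exact GU.ext z1 z2 z3 z4 z5 hf

/-! ### `Aut (GU K) = RR · TT` -/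

theorem finite_mulAut (h : HypG K p n) : Finite (MulAut (GU K)) := by
  have := h.fin
  exact Finite.of_injective (fun α : MulAut (GU K) => (α : GU K → GU K)) (fun α β hab => by
    ext1 x
    exact congrFun hab x)

/-- a good automorphism agrees on `S/Z₄` with a torus element -/
theorem exists_tt (h : HypG K p n) {α : MulAut (GU K)} (hg : Gd α) : ∃ β ∈ TT K, α * β⁻¹ ∈ RR K := by
  have hfin := h.fin
  obtain ⟨qa, qb, q4, q3⟩ := hg
  let f : K → K := fun t => (α (x1 t)).a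
  let g : K → K := fun t => (α (x2 t)).b
  let k : K → K := fun t => (α (x3 t)).c
  have hf : ∀ x, (α x).a = f x.a := fun x => a_congr qa rfl
  have hgg : ∀ x, (α x).b = g x.b := fun x => b_congr qb rfl
  have hk : ∀ x ∈ Z4 K, (α x).c = k x.c := fun x hx => c_congr q4 q3 hx (x3_mem _) rfl
  have fadd : ∀ s t, f (s + t) = f s + f t := by
    intro s t
    have := hf (x1 s * x1 t)
    rw [map_mul, GU.mul_a, hf, hf, GU.mul_a] at this
    exact this.symm
  have gadd : ∀ s t, g (s + t) = g s + g t := by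
    intro s t
    have := hgg (x2 s * x2 t)
    rw [map_mul, GU.mul_b, hgg, hgg, GU.mul_b] at this
    exact this.symm
  have f0 : f 0 = 0 := by
    have := fadd 0 0
    rw [add_zero] at this
    linear_combination -this
  have g0 : g 0 = 0 := by
    have := gadd 0 0
    rw [add_zero] at this
    linear_combination -this
  have hcom : ∀ s t, k (s * t) = g s * f t := by
    intro s t
    have e1 : (x2 s * x1 t * (x2 s)⁻¹ * (x1 t)⁻¹).c = s * t := by
      rw [cm_c]; simp [x1, x2]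
    have e2 : x2 s * x1 t * (x2 s)⁻¹ * (x1 t)⁻¹ ∈ Z4 K := ⟨cm_a _ _, cm_b _ _⟩
    rw [← e1, ← hk _ e2, map_mul, map_mul, map_mul, map_inv, map_inv, cm_c, hf, hf, hgg, hgg]
    have a1 : (x1 t : GU K).a = t := rfl
    have a2 : (x2 s : GU K).b = s := rfl
    have a3 : (x2 s : GU K).a = 0 := rfl
    have a4 : (x1 t : GU K).b = 0 := rfl
    rw [a1, a2, a3, a4, f0, g0]
    ring
  have f1 : f 1 ≠ 0 := by
    intro h0
    have h1 : α (x1 1) ∈ Qa K := h0
    exact one_ne_zero (mem_Qa.1 ((qa _).1 h1))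
  have g1 : g 1 ≠ 0 := by
    intro h0
    have h1 : α (x2 1) ∈ Qb K := h0
    exact one_ne_zero (mem_Qb.1 ((qb _).1 h1))
  have hgf : ∀ t, g 1 * f t = g t * f 1 := by
    intro t
    rw [← hcom, ← hcom, one_mul, mul_one]
  have hff : ∀ s t, f (s * t) * f 1 = f s * f t := by
    intro s t
    apply mul_left_cancel₀ g1
    have h1 : g 1 * f (s * t) = g s * f t := by
      rw [← hcom, ← hcom, one_mul]
    linear_combination f 1 * h1 - f t * hgf s
  let φ : K →+* K :=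
    { toFun := fun t => f t * (f 1)⁻¹
      map_one' := mul_inv_cancel₀ f1
      map_mul' := by
        intro s t
        field_simp
        linear_combination hff s t
      map_zero' := by rw [f0, zero_mul]
      map_add' := by
        intro s t
        rw [fadd, add_mul] }
  have hbij : Function.Bijective φ := Finite.injective_iff_bijective.1 φ.injective
  let τ : K ≃+* K := RingEquiv.ofBijective φ hbij
  have hτ : ∀ t, τ t = f t * (f 1)⁻¹ := fun t => rfl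
  obtain ⟨β, hβ⟩ := exists_tor τ f1 g1
  refine ⟨β, Subgroup.subset_closure (Or.inl ⟨_, _, _, hβ⟩), ?_⟩
  have e1 : ∀ x, (α x).a = (β x).a := by
    intro x
    rw [hf, hβ.a, hτ]
    field_simp
  have e2 : ∀ x, (α x).b = (β x).b := by
    intro x
    rw [hgg, hβ.b, hτ]
    field_simp
    linear_combination -hgf x.b
  intro x
  have e : β (β⁻¹ x) = x := β.apply_symm_apply x
  rw [MulAut.mul_apply, e1, e2, e]
  exact ⟨rfl, rfl⟩

theorem not_sw_of_RR {α : MulAut (GU K)} (ha : α ∈ RR K) : ¬ Sw α := by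
  intro h
  have h1 := (h.1 (x2 (1 : K))).2 (x2_mem 1)
  have h2 := (ha (x2 (1 : K))).2
  rw [mem_Qb, h2] at h1
  exact one_ne_zero h1

theorem RR_inf_TT (h : HypG K p n) : RR K ⊓ TT K = ⊥ := by
  have hfin := h.fin
  rw [eq_bot_iff]
  rintro α ⟨h1, h2⟩
  have h1' : ∀ x, (α x).a = x.a ∧ (α x).b = x.b := h1
  rcases mem_TT h2 with ⟨s, t, τ, hα⟩ | ⟨s, t, τ, α', ρ, hα, hρ, rfl⟩
  · have e1 : ∀ u, s * τ u = u := by
      intro u
      have := (h1' (x1 u)).1
      rw [hα.a] at this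
      exact this
    have e2 : ∀ u, t * τ u = u := by
      intro u
      have := (h1' (x2 u)).2
      rw [hα.b] at this
      exact this
    have es : s = 1 := by
      have := e1 1
      rwa [map_one, mul_one] at this
    have et : t = 1 := by
      have := e2 1
      rwa [map_one, mul_one] at this
    have eτ : ∀ u, τ u = u := by
      intro u
      have := e1 u
      rwa [es, one_mul] at this
    rw [Subgroup.mem_bot]
    refine ext_aut fun x => ?_
    rw [MulAut.one_apply, hα.a, hα.b, hα.c, hα.d, hα.e, hα.f, es, et]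
    simp only [eτ, one_mul, one_pow, and_self]
  · exfalso
    have h3 := (h1' (x1 1)).1
    rw [MulAut.mul_apply, hα.a, hρ.a] at h3
    have h4 : s * τ 0 = 1 := h3
    rw [map_zero, mul_zero] at h4
    exact zero_ne_one h4

theorem RR_card (h : HypG K p n) (hq : 2 < p ^ n) (hTI : StTI.{u}) : ∃ e : ℕ, Nat.card (RR K) = p ^ e := by
  have := finite_mulAut h
  refine ⟨_, Nat.eq_prime_pow_of_unique_prime_dvd (Nat.card_pos (α := RR K)).ne' ?_⟩
  intro d hd hdvd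
  by_contra hne
  have : Fact d.Prime := ⟨hd⟩
  obtain ⟨α, hα⟩ := exists_prime_orderOf_dvd_card' (G := RR K) d hdvd
  have h1 : (α : MulAut (GU K)) ^ d = 1 := by
    rw [← SubmonoidClass.coe_pow, ← hα, pow_orderOf_eq_one, OneMemClass.coe_one]
  have hpd : ¬ p ∣ d := fun h3 => hne ((Nat.prime_dvd_prime_iff_eq h.pp hd).1 h3).symm
  have h2 : (α : MulAut (GU K)) = 1 :=
    RR_trivial h hq hTI α.2 (gd_of h hq hTI (not_sw_of_RR α.2) h1 hpd) h1 hpd
  have h3 : α = 1 := Subtype.ext h2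
  rw [h3, orderOf_one] at hα
  exact hd.one_lt.ne hα

/-! ### the conjugation -/

open scoped Pointwise in
/-- Schur-Zassenhaus inside a subgroup -/
theorem sz_in {G : Type u} [Group G] [Finite G] (R D T : Subgroup G) [R.Normal] (hs : Group.IsSolvable R)
    (hcop : (Nat.card D).Coprime (Nat.card R)) (hRT : R ⊓ T = ⊥)
    (hall : ∀ x ∈ D, ∃ t ∈ T, x * t⁻¹ ∈ R) : ∃ g : G, ∀ d ∈ D, g * d * g⁻¹ ∈ T := by
  let L : Subgroup G := D ⊔ R
  have hDL : D ≤ L := le_sup_left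
  have hRL : R ≤ L := le_sup_right
  let N : Subgroup L := R.subgroupOf L
  have hN : N.Normal := inferInstance
  let H : Subgroup L := D.subgroupOf L
  let T' : Subgroup L := T.subgroupOf L
  have cN : Nat.card N = Nat.card R := Nat.card_congr (Subgroup.subgroupOfEquivOfLe hRL).toEquiv
  have cH : Nat.card H = Nat.card D := Nat.card_congr (Subgroup.subgroupOfEquivOfLe hDL).toEquiv
  have hDR : D ⊓ R = ⊥ := (Subgroup.disjoint_of_coprime_natCard hcop).eq_bot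
  have hNH : N.IsComplement' H := by
    refine Subgroup.isComplement'_of_disjoint_and_mul_eq_univ ?_ ?_
    · rw [disjoint_iff, eq_bot_iff]
      rintro ⟨x, hx⟩ ⟨h1, h2⟩
      have h3 : x ∈ D ⊓ R := ⟨h2, h1⟩
      rw [hDR] at h3
      exact Subgroup.mem_bot.2 (Subtype.ext h3)
    · rw [Set.eq_univ_iff_forall]
      rintro ⟨x, hx⟩
      have hx' : x ∈ ((R ⊔ D : Subgroup G) : Set G) := by
        rw [sup_comm]
        exact hx
      rw [Subgroup.normal_mul] at hx'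
      obtain ⟨r, hr, d, hd, rfl⟩ := Set.mem_mul.1 hx'
      exact Set.mem_mul.2 ⟨⟨r, hRL hr⟩, hr, ⟨d, hDL hd⟩, hd, rfl⟩
  have hNT : N.IsComplement' T' := by
    refine Subgroup.isComplement'_of_disjoint_and_mul_eq_univ ?_ ?_
    · rw [disjoint_iff, eq_bot_iff]
      rintro ⟨x, hx⟩ ⟨h1, h2⟩
      have h3 : x ∈ R ⊓ T := ⟨h1, h2⟩
      rw [hRT] at h3
      exact Subgroup.mem_bot.2 (Subtype.ext h3)
    · rw [Set.eq_univ_iff_forall]
      rintro ⟨x, hx⟩
      have hx' : x ∈ ((R ⊔ D : Subgroup G) : Set G) := by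
        rw [sup_comm]
        exact hx
      rw [Subgroup.normal_mul] at hx'
      obtain ⟨r, hr, d, hd, rfl⟩ := Set.mem_mul.1 hx'
      obtain ⟨t, ht, hdt⟩ := hall d hd
      have hxt : r * d * t⁻¹ ∈ R := by
        rw [mul_assoc]
        exact R.mul_mem hr hdt
      have htL : t ∈ L := by
        have h5 : (r * d * t⁻¹)⁻¹ * (r * d) ∈ L := L.mul_mem (L.inv_mem (hRL hxt)) hx
        have h6 : (r * d * t⁻¹)⁻¹ * (r * d) = t := by group
        rwa [h6] at h5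
      refine Set.mem_mul.2 ⟨⟨r * d * t⁻¹, hRL hxt⟩, hxt, ⟨t, htL⟩, ht, ?_⟩
      exact Subtype.ext (inv_mul_cancel_right (r * d) t)
  have iH : Nat.card H = N.index := hNH.symm.index_eq_card.symm
  have iT : Nat.card T' = N.index := hNT.symm.index_eq_card.symm
  have hcop' : (Nat.card N).Coprime N.index := by
    rw [cN, ← iH, cH]
    exact hcop.symm
  have hsN : Group.IsSolvable N :=
    Group.isSolvable_of_isSolvable_injective (f := (Subgroup.subgroupOfEquivOfLe hRL).toMonoidHom)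
      (Subgroup.subgroupOfEquivOfLe hRL).injective
  obtain ⟨g, hg⟩ := Cfsg.Agent.Solvable.SZ.main (Nat.card L) L rfl N hcop' H T' (Or.inl hsN) iH iT
  refine ⟨g, fun d hd => ?_⟩
  have h1 : MulAut.conj g • (⟨d, hDL hd⟩ : L) ∈ MulAut.conj g • H :=
    Subgroup.smul_mem_pointwise_smul _ _ _ hd
  rw [hg] at h1
  exact h1

/-- **[G2-POS]** `StPos` from `StTI` -/
theorem stPos (hTI : StTI.{u}) : StPos.{u} := by
  intro K _ p n h hq D hD
  have hfin := h.fin
  have hch := h.char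
  have := finite_mulAut h
  have : (RR K).Normal := RR_normal (pr_Z4 h hq hTI)
  obtain ⟨e, he⟩ := RR_card h hq hTI
  have hp : Fact p.Prime := ⟨h.pp⟩
  have hpg : IsPGroup p (RR K) := IsPGroup.of_card he
  have hnil := hpg.isNilpotent
  have hs : Group.IsSolvable (RR K) := inferInstance
  refine sz_in (RR K) D (TT K) hs ?_ (RR_inf_TT h) ?_
  · rw [he]
    exact Nat.Coprime.pow_right e hD
  intro d hd
  have hm : d ^ Nat.card D = 1 := by
    have h1 : (⟨d, hd⟩ : D) ^ Nat.card D = 1 := pow_card_eq_one'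
    exact congrArg Subtype.val h1
  have hpm : ¬ p ∣ Nat.card D := by
    intro h1
    exact (Nat.Prime.coprime_iff_not_dvd h.pp).1 hD.symm h1
  by_cases hsw : Sw d
  · -- only in characteristic `3`
    have hp3 : p = 3 := by
      by_contra hp3
      have h1 := (pres' h hq hTI hp3 d).1
      have h2 := (hsw.1 (x2 (1 : K))).2 (x2_mem 1)
      have h3 := (h1 (x2 (1 : K))).2 (x2_mem 1)
      have h4 : d (x2 1) ∈ Z4 K := ⟨h3, h2⟩
      have h5 := (mem_Z4.1 ((pr_Z4 h hq hTI d _).1 h4)).2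
      exact one_ne_zero h5
    subst hp3
    have h3 : (3 : K) = 0 := by exact_mod_cast CharP.cast_eq_zero K 3
    obtain ⟨ρ, hρ⟩ := exists_gr h3
    have hg : Gd (d * ρ⁻¹) := by
      have hρa : ∀ g, ρ⁻¹ g ∈ Qb K ↔ g ∈ Qa K := by
        intro g
        have e : ρ (ρ⁻¹ g) = g := ρ.apply_symm_apply g
        have h5 := hρ.a (ρ⁻¹ g)
        rw [e] at h5
        rw [mem_Qb, mem_Qa, h5]
      have hρb : ∀ g, ρ⁻¹ g ∈ Qa K ↔ g ∈ Qb K := by
        intro g
        have e : ρ (ρ⁻¹ g) = g := ρ.apply_symm_apply g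
        have h5 := hρ.b (ρ⁻¹ g)
        rw [e] at h5
        rw [mem_Qb, mem_Qa, h5]
        exact (pow_eq_zero_iff (by norm_num)).symm
      have ha : Pr (d * ρ⁻¹) (Qa K) := fun g => by rw [MulAut.mul_apply, hsw.2, hρa]
      have hb : Pr (d * ρ⁻¹) (Qb K) := fun g => by rw [MulAut.mul_apply, hsw.1, hρb]
      exact ⟨ha, hb, pr_Z4 h hq hTI _, hb.cent (cent_Qb_three h3)⟩
    obtain ⟨β, hβ, h5⟩ := exists_tt h hg
    refine ⟨β * ρ, (TT K).mul_mem hβ (Subgroup.subset_closure (Or.inr hρ)), ?_⟩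
    rw [mul_inv_rev, ← mul_assoc]
    exact h5
  · exact exists_tt h (gd_of h hq hTI hsw hm hpm)

end Cfsg.Agent.H199.GT
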